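import Groth.Agent.Adeq2Lib.ZarCompare
import Groth.Agent.SiteBase.EdgeZero

/-!
# Natural comparison of sheaf cohomology on two sites by dimension shifting
-/

set_option autoImplicit false
set_option linter.style.haveILetI false

universe w₁' w₂' w₁ w₂ v₁ v₂ u₁ u₂

open CategoryTheory Limits Opposite Abelian

namespace Groth.Agent.GaLin11

section Shift

variable {C : Type u₁} [Category.{v₁} C] {J : GrothendieckTopology C}
  [HasSheafify J AddCommGrpCat.{w₁}] [HasExt.{w₁'} (Sheaf J AddCommGrpCat.{w₁})]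

/-- the connecting map on cohomology -/
noncomputable def delta {E : ShortComplex (Sheaf J AddCommGrpCat.{w₁})} (hE : E.ShortExact) (m : ℕ) :
    Sheaf.H E.X₃ m →+ Sheaf.H E.X₁ (m + 1) :=
  hE.extClass.postcomp _ rfl

theorem delta_natural {E E' : ShortComplex (Sheaf J AddCommGrpCat.{w₁})} (hE : E.ShortExact)
    (hE' : E'.ShortExact) (ψ : E ⟶ E') (m : ℕ) (y : Sheaf.H E.X₃ m) :
    Sheaf.H.map ψ.τ₁ (m + 1) (delta hE m y) = delta hE' m (Sheaf.H.map ψ.τ₃ m y) :=
  SiteBase.Edge.postcomp_extClass_natural _ hE hE' ψ m y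

theorem delta_eq_zero_iff {E : ShortComplex (Sheaf J AddCommGrpCat.{w₁})} (hE : E.ShortExact) (m : ℕ)
    (y : Sheaf.H E.X₃ m) : delta hE m y = 0 ↔ ∃ x, Sheaf.H.map E.g m x = y :=
  ⟨fun h => Ext.covariant_sequence_exact₃ _ hE y rfl h, by
    rintro ⟨x, rfl⟩
    exact SiteBase.Edge.postcomp_extClass_zero _ hE m x⟩

theorem delta_surjective {E : ShortComplex (Sheaf J AddCommGrpCat.{w₁})} (hE : E.ShortExact) (m : ℕ)
    (h : Subsingleton (Sheaf.H E.X₂ (m + 1))) : Function.Surjective (delta hE m) := fun z =>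
  Ext.covariant_sequence_exact₁ _ hE z (h.elim _ _) rfl

end Shift

variable {C₁ : Type u₁} [Category.{v₁} C₁] {J₁ : GrothendieckTopology C₁}
  [HasSheafify J₁ AddCommGrpCat.{w₁}] [HasExt.{w₁'} (Sheaf J₁ AddCommGrpCat.{w₁})]
  [EnoughInjectives (Sheaf J₁ AddCommGrpCat.{w₁})]
  {C₂ : Type u₂} [Category.{v₂} C₂] {J₂ : GrothendieckTopology C₂}
  [HasSheafify J₂ AddCommGrpCat.{w₂}] [HasExt.{w₂'} (Sheaf J₂ AddCommGrpCat.{w₂})]

/-- A functor matching global sections, exact on the injective presentations of the class `P` and sending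
injectives to acyclic sheaves, respects the cohomology of the class, naturally in the sheaf. -/
theorem exists_H_addEquiv_natural {T₁ : C₁} (hT₁ : IsTerminal T₁) {T₂ : C₂} (hT₂ : IsTerminal T₂)
    (Φ : Sheaf J₁ AddCommGrpCat.{w₁} ⥤ Sheaf J₂ AddCommGrpCat.{w₂}) [Φ.PreservesZeroMorphisms]
    (sec : ∀ G : Sheaf J₁ AddCommGrpCat.{w₁}, G.obj.obj (op T₁) ≃+ (Φ.obj G).obj.obj (op T₂))
    (hsec : ∀ {G G' : Sheaf J₁ AddCommGrpCat.{w₁}} (f : G ⟶ G') (x : G.obj.obj (op T₁)),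
      ((Φ.map f).hom.app (op T₂)).hom (sec G x) = sec G' ((f.hom.app (op T₁)).hom x))
    (P : Sheaf J₁ AddCommGrpCat.{w₁} → Prop)
    (hPI : ∀ I : Sheaf J₁ AddCommGrpCat.{w₁}, Injective I → P I)
    (hP : ∀ E : ShortComplex (Sheaf J₁ AddCommGrpCat.{w₁}), E.ShortExact → Injective E.X₂ → P E.X₁ → P E.X₃)
    (hex : ∀ E : ShortComplex (Sheaf J₁ AddCommGrpCat.{w₁}), E.ShortExact → Injective E.X₂ → P E.X₁ →
      (E.map Φ).ShortExact)
    (hinj : ∀ I : Sheaf J₁ AddCommGrpCat.{w₁}, Injective I → ∀ k, Subsingleton (Sheaf.H (Φ.obj I) (k + 1)))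
    (n : ℕ) : ∃ e : ∀ G, P G → (Sheaf.H G n ≃+ Sheaf.H (Φ.obj G) n),
      ∀ G G' (hG : P G) (hG' : P G') (f : G ⟶ G') (x : Sheaf.H G n),
        e G' hG' (Sheaf.H.map f n x) = Sheaf.H.map (Φ.map f) n (e G hG x) := by
  induction n with
  | zero =>
    refine ⟨fun G _ => ((Sheaf.H.equiv₀ G hT₁).trans (sec G)).trans (Sheaf.H.equiv₀ _ hT₂).symm,
      fun G G' _ _ f x => ?_⟩
    show (Sheaf.H.equiv₀ _ hT₂).symm (sec G' (Sheaf.H.equiv₀ G' hT₁ (Sheaf.H.map f 0 x))) =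
      Sheaf.H.map (Φ.map f) 0 ((Sheaf.H.equiv₀ _ hT₂).symm (sec G (Sheaf.H.equiv₀ G hT₁ x)))
    rw [Sheaf.H.equiv₀_symm_naturality, ← Sheaf.H.equiv₀_naturality]
    exact congrArg _ (hsec f _).symm
  | succ m ih =>
    obtain ⟨e, he⟩ := ih
    let Q := fun G : Sheaf J₁ AddCommGrpCat.{w₁} => Classical.arbitrary (InjectivePresentation G)
    have hS : ∀ G, (Q G).shortComplex.ShortExact := fun G => (Q G).shortExact_shortComplex
    have hI : ∀ G, Injective (Q G).shortComplex.X₂ := fun G => (Q G).injective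
    have hP₃ : ∀ G, P G → P (Q G).shortComplex.X₃ := fun G hG => hP _ (hS G) (hI G) hG
    have hΦ : ∀ G, P G → ((Q G).shortComplex.map Φ).ShortExact := fun G hG => hex _ (hS G) (hI G) hG
    have hs₁ : ∀ G, Function.Surjective (delta (hS G) m) := fun G => delta_surjective (hS G) m
      (subsingleton_of_forall_eq 0 fun x => haveI := hI G; Ext.eq_zero_of_injective x)
    let φ : ∀ G, P G → (Sheaf.H (Q G).shortComplex.X₃ m →+ Sheaf.H (Φ.obj G) (m + 1)) := fun G hG =>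
      (delta (hΦ G hG) m).comp (e _ (hP₃ G hG)).toAddMonoidHom
    have hφsurj : ∀ G hG, Function.Surjective (φ G hG) := fun G hG =>
      (delta_surjective (hΦ G hG) m (hinj _ (hI G) m)).comp (e _ (hP₃ G hG)).surjective
    have hker : ∀ G hG y, φ G hG y = 0 ↔ delta (hS G) m y = 0 := fun G hG y => by
      refine (delta_eq_zero_iff (hΦ G hG) m _).trans (Iff.trans ?_ (delta_eq_zero_iff (hS G) m y).symm)
      constructor
      · rintro ⟨x, hx⟩
        refine ⟨(e _ (hPI _ (hI G))).symm x, (e _ (hP₃ G hG)).injective ?_⟩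
        rw [he _ _ (hPI _ (hI G)) (hP₃ G hG), AddEquiv.apply_symm_apply]
        exact hx
      · rintro ⟨x, rfl⟩
        exact ⟨e _ (hPI _ (hI G)) x, (he _ _ (hPI _ (hI G)) (hP₃ G hG) _ x).symm⟩
    let L : ∀ G, P G → (Sheaf.H G (m + 1) →+ Sheaf.H (Φ.obj G) (m + 1)) := fun G hG =>
      AddMonoidHom.liftOfSurjective (delta (hS G) m) (hs₁ G) ⟨φ G hG, fun y hy => (hker G hG y).2 hy⟩
    have hL : ∀ G hG y, L G hG (delta (hS G) m y) = φ G hG y := fun G hG y =>
      AddMonoidHom.liftOfRightInverse_comp_apply _ _ _ _ y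
    have hLb : ∀ G hG, Function.Bijective (L G hG) := fun G hG => by
      refine ⟨(injective_iff_map_eq_zero _).2 fun x hx => ?_, fun z => ?_⟩
      · obtain ⟨y, rfl⟩ := hs₁ G x
        exact (hker G hG y).1 ((hL G hG y).symm.trans hx)
      · obtain ⟨y, rfl⟩ := hφsurj G hG z
        exact ⟨_, hL G hG y⟩
    refine ⟨fun G hG => AddEquiv.ofBijective (L G hG) (hLb G hG), fun G G' hG hG' f x => ?_⟩
    show L G' hG' (Sheaf.H.map f (m + 1) x) = Sheaf.H.map (Φ.map f) (m + 1) (L G hG x)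
    obtain ⟨y, rfl⟩ := hs₁ G x
    haveI := hI G'
    haveI := (hS G).mono_f
    let β : (Q G).shortComplex.X₂ ⟶ (Q G').shortComplex.X₂ :=
      Injective.factorThru (f ≫ (Q G').shortComplex.f) (Q G).shortComplex.f
    have hβ : (Q G).shortComplex.f ≫ β = f ≫ (Q G').shortComplex.f := Injective.comp_factorThru _ _
    haveI := (hS G).epi_g
    have hz : (Q G).shortComplex.f ≫ β ≫ (Q G').shortComplex.g = 0 :=
      (Category.assoc _ _ _).symm.trans ((congrArg (· ≫ (Q G').shortComplex.g) hβ).trans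
        ((Category.assoc _ _ _).trans ((congrArg (f ≫ ·) (Q G').shortComplex.zero).trans comp_zero)))
    let γ : (Q G).shortComplex.X₃ ⟶ (Q G').shortComplex.X₃ :=
      (hS G).exact.desc (β ≫ (Q G').shortComplex.g) hz
    let ψ : (Q G).shortComplex ⟶ (Q G').shortComplex :=
      { τ₁ := f, τ₂ := β, τ₃ := γ, comm₁₂ := hβ.symm, comm₂₃ := ((hS G).exact.g_desc _ hz).symm }
    rw [show Sheaf.H.map f (m + 1) (delta (hS G) m y) = delta (hS G') m (Sheaf.H.map γ m y) from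
      delta_natural (hS G) (hS G') ψ m y, hL G' hG', hL G hG]
    show delta (hΦ G' hG') m (e _ (hP₃ G' hG') (Sheaf.H.map γ m y)) =
      Sheaf.H.map (Φ.map f) (m + 1) (delta (hΦ G hG) m (e _ (hP₃ G hG) y))
    rw [he _ _ (hP₃ G hG) (hP₃ G' hG')]
    exact (delta_natural (hΦ G hG) (hΦ G' hG') (Φ.mapShortComplex.map ψ) m _).symm

end Groth.Agent.GaLin11
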