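import Groth.Agent.GaLin11.CompareNat
import Groth.Agent.EtLC12.GaZar
import Groth.Agent.EtLC12.ArtinSchreier

/-!
# Multiplication by global functions on étale cohomology of `G_a`
-/

set_option autoImplicit false
set_option backward.isDefEq.respectTransparency false
set_option backward.isDefEq.respectTransparency.types false
set_option linter.style.haveILetI false

universe u

open CategoryTheory CategoryTheory.Limits AlgebraicGeometry Opposite TopologicalSpace

namespace Groth.Agent.GaLin11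

open Groth.Agent.EtLC12

variable {X : Scheme.{u}}

/-- multiplication by a global function on `G_a` -/
noncomputable def mulGa (a : Γ(X, ⊤)) : EtCoh.Ga X ⟶ EtCoh.Ga X :=
  ⟨{ app := fun U => AddCommGrpCat.uliftFunctor.{u + 1}.map
        (AddCommGrpCat.ofHom (AddMonoidHom.mulLeft (U.unop.hom.appTop a : Γ(U.unop.left, ⊤))))
     naturality := by
       intro U V g
       ext ⟨x⟩
       refine congrArg ULift.up (Eq.symm ?_)
       refine (map_mul g.unop.left.appTop.hom (U.unop.hom.appTop a) x).trans (congrArg (· * _) ?_)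
       rw [← MorphismProperty.Over.w g.unop, Scheme.Hom.comp_appTop]
       rfl }⟩

section Frob

variable (p : ℕ) [Fact p.Prime] (h0 : (p : Γ(X, ⊤)) = 0)

/-- Frobenius on `G_a` -/
noncomputable def frobGa : EtCoh.Ga X ⟶ EtCoh.Ga X := ArtinSchreier.as p h0 + 𝟙 _

theorem frobGa_app (U : X.Etaleᵒᵖ) (x : Γ(U.unop.left, ⊤)) :
    ((frobGa p h0).hom.app U).hom (ULift.up x) = ULift.up (x ^ p) :=
  congrArg ULift.up (sub_add_cancel (x ^ p) x)

theorem mulGa_frobGa (a : Γ(X, ⊤)) : mulGa a ≫ frobGa p h0 = frobGa p h0 ≫ mulGa (a ^ p) := by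
  refine Sheaf.hom_ext (NatTrans.ext (funext fun U => AddCommGrpCat.hom_ext (AddMonoidHom.ext fun x => ?_)))
  obtain ⟨x⟩ := x
  change Γ(U.unop.left, ⊤) at x
  change ((frobGa p h0).hom.app U).hom (ULift.up ((show Γ(U.unop.left, ⊤) from U.unop.hom.appTop a) * x)) =
    ((mulGa (a ^ p)).hom.app U).hom (((frobGa p h0).hom.app U).hom (ULift.up x))
  rw [frobGa_app, frobGa_app]
  refine congrArg ULift.up ?_
  show _ = (show Γ(U.unop.left, ⊤) from U.unop.hom.appTop (a ^ p)) * x ^ p
  rw [map_pow, mul_pow]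

end Frob

variable [EtZar.ZarCont X]

theorem mulGa_compat (a : Γ(X, ⊤)) :
    (EtZar.resZar X).map (mulGa a) ≫ (GaZar.resGaIso X).hom =
      (GaZar.resGaIso X).hom ≫ (ZarLift.lift X).map (Coh.smulAb (Coh.structureModule X) a) := by
  refine Sheaf.hom_ext (NatTrans.ext (funext fun V => AddCommGrpCat.hom_ext (AddMonoidHom.ext fun x => ?_)))
  obtain ⟨x⟩ := x
  change Γ(Scheme.Opens.toScheme V.unop, ⊤) at x
  refine congrArg ULift.up ?_
  show (Scheme.Opens.topIso (V.unop : X.Opens)).hom ((Scheme.Opens.ι (V.unop : X.Opens)).appTop a * x) =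
    (show Γ(X, V.unop) from Coh.resTop X V a) * (Scheme.Opens.topIso (V.unop : X.Opens)).hom x
  rw [map_mul]
  refine congrArg (· * _) ?_
  rw [Scheme.Opens.topIso_hom, Scheme.Opens.ι_appTop]
  show (X.presheaf.map _ ≫ X.presheaf.map _).hom a = _
  rw [← Functor.map_comp]
  rfl

variable (X) in
/-- Étale cohomology of `G_a` is Zariski cohomology of `O`, compatibly with multiplication by functions. -/
theorem exists_H_Ga_addEquiv (n : ℕ) :
    ∃ e : EtCoh.H X (EtCoh.Ga X) n ≃+ Coh.HH X (Coh.structureModule X) n,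
      ∀ (a : Γ(X, ⊤)) (x : EtCoh.H X (EtCoh.Ga X) n),
        e (Sheaf.H.map (mulGa a) n x) = (show Coh.Γtop X from a) • e x := by
  obtain ⟨e₁, h₁⟩ := exists_H_addEquiv_natural (EtFound.topIsTerminal X) (T₂ := (⊤ : X.Opens))
    (IsTerminal.ofUnique _) (EtZar.resZar X)
    (fun G => (G.obj.mapIso (EtZarCompare.topIso (X := X)).op).addCommGroupIsoToAddEquiv)
    (fun f x => (NatTrans.naturality_apply f.hom (EtZarCompare.topIso (X := X)).op.hom x))
    AffineCartan.IsAffAcyclic (fun I hI => haveI := hI; AffineCartan.isAffAcyclic_of_injective I)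
    (fun E hE hI h1 => AffineCartan.isAffAcyclic_X₃ E hE h1 (haveI := hI; AffineCartan.isAffAcyclic_of_injective E.X₂))
    (fun E hE _ h1 => EtZarCompare.shortExact_resZar E hE h1)
    (fun I hI k => haveI := hI; Adeq2Lib.ZarFl.subsingleton_H_of_flq k _ (EtZarCompare.flq_resZar_injective I)) n
  obtain ⟨e₂, h₂⟩ := exists_H_addEquiv_natural (T₁ := (⊤ : X.Opens)) (IsTerminal.ofUnique _) (T₂ := (⊤ : X.Opens))
    (IsTerminal.ofUnique _) (ZarLift.lift X) (fun G => AddEquiv.ulift.symm) (fun _ _ => rfl) (fun _ => True)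
    (fun _ _ => trivial) (fun _ _ _ _ => trivial) (fun _ hE _ _ => ZarLift.shortExact_lift hE)
    (fun I hI k => haveI := hI; Adeq2Lib.ZarFl.subsingleton_H_of_flq k _ (ZarLift.flq_lift_injective I)) n
  let eG := e₁ (EtCoh.Ga X) (GaAmitsur.isAffAcyclic_Ga X)
  let eC := e₂ (Coh.toAb (Coh.structureModule X)) trivial
  let i := ((Sheaf.functorH _ n).mapIso (GaZar.resGaIso X)).addCommGroupIsoToAddEquiv
  refine ⟨(eG.trans i).trans eC.symm, fun a x => eC.injective ?_⟩
  show eC (eC.symm (i (eG (Sheaf.H.map (mulGa a) n x)))) =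
    eC (Sheaf.H.map (Coh.smulAb (Coh.structureModule X) (show Coh.Γtop X from a)) n (eC.symm (i (eG x))))
  rw [AddEquiv.apply_symm_apply, h₂ _ _ trivial trivial, AddEquiv.apply_symm_apply,
    h₁ _ _ (GaAmitsur.isAffAcyclic_Ga X) (GaAmitsur.isAffAcyclic_Ga X)]
  show Sheaf.H.map (GaZar.resGaIso X).hom n (Sheaf.H.map ((EtZar.resZar X).map (mulGa a)) n (eG x)) =
    Sheaf.H.map _ n (Sheaf.H.map (GaZar.resGaIso X).hom n (eG x))
  rw [← Sheaf.H.map_comp_apply, ← Sheaf.H.map_comp_apply]
  exact congrArg (fun t => Sheaf.H.map t n (eG x)) (mulGa_compat a)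

end Groth.Agent.GaLin11
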