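import Mathlib.FieldTheory.IsSepClosed
import Mathlib.Algebra.CharP.Basic
import Mathlib.LinearAlgebra.FiniteDimensional.Basic
import Mathlib.LinearAlgebra.Dimension.Constructions
import Mathlib.RingTheory.Noetherian.Basic

/-!
# Frobenius-semilinear endomorphisms over separably closed fields
-/

universe u

open Polynomial

namespace Groth.Agent.GaLin11

/-- `F - 1` hits every vector. -/
theorem exists_sub_eq {k V : Type*} [Field k] [IsSepClosed k] (p : ℕ) [Fact p.Prime] [CharP k p]
    [AddCommGroup V] [Module k V] [FiniteDimensional k V] (F : V →+ V)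
    (hF : ∀ (c : k) (v : V), F (c • v) = c ^ p • F v) (w : V) :
    ∃ x, F x - x = w := by
  classical
  let e : ℕ → V := fun i => F^[i] w
  obtain ⟨n, hn⟩ : ∃ n, e (n + 1) ∈ Submodule.span k (e '' Set.Iic n) := by
    obtain ⟨n, hn⟩ := monotone_stabilizes_iff_noetherian.2 (inferInstance : IsNoetherian k V)
      ⟨fun n => Submodule.span k (e '' Set.Iic n),
        fun a b hab => Submodule.span_mono (Set.image_mono (Set.Iic_subset_Iic.2 hab))⟩
    exact ⟨n, (hn (n + 1) n.le_succ).ge (Submodule.subset_span ⟨n + 1, Set.mem_Iic.2 le_rfl, rfl⟩)⟩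
  rw [← Finset.coe_Iic, Submodule.mem_span_image_finset_iff_exists_fun'] at hn
  obtain ⟨a₀, ha₀⟩ := hn
  let a : ℕ → k := a₀
  have ha : ∑ i ∈ Finset.range (n + 1), a i • e i = e (n + 1) := by
    rw [← ha₀, Nat.range_succ_eq_Iic]
  let Q : ℕ → k[X] := fun i => Nat.rec (C (a 0) * X ^ p - 1) (fun j q => q ^ p + C (a (j + 1)) * X ^ p) i
  have hQ : ∀ i, derivative (Q i) = 0 := by
    intro i
    cases i with
    | zero => simp [Q, derivative_X_pow, CharP.cast_eq_zero k p]
    | succ j => simp [Q, derivative_pow, derivative_X_pow, CharP.cast_eq_zero k p]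
  obtain ⟨t, ht⟩ : ∃ t, IsRoot (Q n - X) t := by
    refine IsSepClosed.exists_root _ (fun h => ?_) ?_
    · have h2 : derivative (Q n - X) = 0 := by rw [eq_C_of_degree_eq_zero h, derivative_C]
      simp [hQ] at h2
    · rw [separable_def, derivative_sub, hQ, derivative_X, zero_sub]
      exact ⟨0, -1, by simp⟩
  rw [IsRoot, eval_sub, eval_X, sub_eq_zero] at ht
  let x : ℕ → k := fun i => (Q i).eval t
  refine ⟨∑ i ∈ Finset.range (n + 1), x i • e i, ?_⟩
  have h1 : F (∑ i ∈ Finset.range (n + 1), x i • e i) =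
      ∑ i ∈ Finset.range (n + 1), x i ^ p • e (i + 1) := by
    rw [map_sum]
    exact Finset.sum_congr rfl fun i _ => by rw [hF, show e (i + 1) = F (e i) from Function.iterate_succ_apply' F i w]
  rw [h1, Finset.sum_range_succ, show x n ^ p = t ^ p by rw [show x n = t from ht], ← ha, Finset.smul_sum,
    Finset.sum_range_succ' (fun i => x i • e i), Finset.sum_range_succ' (fun i => t ^ p • a i • e i)]
  have hx : ∀ i, x (i + 1) = x i ^ p + a (i + 1) * t ^ p := fun i => by simp [x, Q]
  have h0 : x 0 = a 0 * t ^ p - 1 := by simp [x, Q]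
  have he : e 0 = w := rfl
  simp only [hx, h0, smul_smul, add_smul, Finset.sum_add_distrib, sub_smul, one_smul, mul_comm (t ^ p), he]
  abel

end Groth.Agent.GaLin11
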